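import Mathlib
import Cfsg.Agent.Helper16.DefOneSetup
import Cfsg.Agent.Helper82.McKayP.Singular
import Cfsg.Agent.Helper48.DefOneGRa
import Cfsg.Agent.Helper11.DefOneGRb
import Cfsg.Agent.Helper91.DefOneGRc
import Cfsg.Agent.Helper49.DefOneCANa
import Cfsg.Agent.Helper10.DefOneCANb
import Cfsg.Agent.Helper4.DefOneGT1ab
import Cfsg.Agent.Helper31.GramGlue
import Cfsg.Agent.Helper37.DefOneGT2a

set_option autoImplicit false

/-!
# helper82's part of the defect-one engine: the landed pieces under one namespace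

`G` finite, `P` a Sylow `p`-subgroup of order `p`, `C = cen P = C_G(P)`, `N = nor P = N_G(P)`.
All facts (GR) (group theory), (CAN) (the canonical map `can P`), (GT1) (inertia indices and the
Gram relation) with their final, hypothesis-free statements; the proofs are the pieces of
helper48 (GR-a), helper11 (GR-b), helper91 (GR-c), helper49 (CAN-a), helper10 (CAN-b),
helper4 (GT1-a, GT1-b), helper31 (GT1-c), helper37 (GT2-a).
-/

namespace Cfsg.Agent.Helper82.DefOne

open Cfsg Cfsg.Agent.Helper16 Cfsg.Agent.Helper16.DefOne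

universe u

variable {G : Type u} [Group G] [Fintype G] {p : ℕ} [Fact p.Prime] (M : Ideal AlgInt)
  (P : Sylow p G)

/-! ## (GR) group theory -/

theorem le_cen (hP : Nat.card P = p) : (P : Subgroup G) ≤ cen P :=
  Helper48.DefOneGR.le_cen P hP

theorem nor_eq_normalizer (hP : Nat.card P = p) :
    nor P = Subgroup.normalizer ((P : Subgroup G) : Set G) :=
  Helper48.DefOneGR.nor_eq_normalizer P hP

theorem isCyclic_nor_quot (hP : Nat.card P = p) :
    IsCyclic (↥(nor P) ⧸ (cen P).subgroupOf (nor P)) :=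
  Helper11.DefOneGRb.isCyclic_nor_quot P hP

theorem relIndex_cen_nor_dvd (hP : Nat.card P = p) : (cen P).relIndex (nor P) ∣ p - 1 :=
  Helper11.DefOneGRb.relIndex_cen_nor_dvd P hP

theorem subgroupOf_cen_le_center (hP : Nat.card P = p) :
    (P : Subgroup G).subgroupOf (cen P) ≤ Subgroup.center ↥(cen P) :=
  Helper48.DefOneGR.subgroupOf_cen_le_center P hP

theorem card_subgroupOf_cen (hP : Nat.card P = p) :
    Nat.card ((P : Subgroup G).subgroupOf (cen P)) = p :=
  Helper48.DefOneGR.card_subgroupOf_cen P hP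

theorem not_dvd_index_subgroupOf_cen (hP : Nat.card P = p) :
    ¬ p ∣ ((P : Subgroup G).subgroupOf (cen P)).index :=
  Helper48.DefOneGR.not_dvd_index_subgroupOf_cen P hP

/-- (TI) the `p`-singular elements of `C` form a TI set with normalizer `N`. -/
theorem mem_nor_of_conj_mem (hP : Nat.card P = p) (g : G) (a : G)
    (ha : a ∈ {a : G | a ∈ cen P ∧ p ∣ orderOf a})
    (hga : g⁻¹ * a * g ∈ {a : G | a ∈ cen P ∧ p ∣ orderOf a}) : g ∈ nor P :=
  Helper48.DefOneGR.mem_nor_of_conj_mem P hP g a ha hga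

/-- (FREE) -/
theorem mem_cen_of_smul_eq (hP : Nat.card P = p) (n : nor P) (φ : IrrCharacter (cen P))
    (hφ : ¬ IsCanon P φ) (h : n • φ = φ) : (n : G) ∈ cen P :=
  Helper91.DefOneGRc.mem_cen_of_smul_eq P hP n φ hφ h

theorem smul_eq_of_mem_cen (n : nor P) (φ : IrrCharacter (cen P)) (h : (n : G) ∈ cen P) :
    n • φ = φ :=
  Helper91.DefOneGRc.smul_eq_of_mem_cen P n φ h

theorem isCanon_smul (hP : Nat.card P = p) (n : nor P) (θ : IrrCharacter (cen P))
    (hθ : IsCanon P θ) : IsCanon P (n • θ) :=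
  Helper91.DefOneGRc.isCanon_smul P hP n θ hθ

/-! ## (CAN) the canonical map -/

theorem isCanon_can (hP : Nat.card P = p) (φ : IrrCharacter (cen P)) : IsCanon P (can P φ) :=
  Helper49.DefOneCANa.isCanon_can P hP φ

theorem can_eq_self (hP : Nat.card P = p) (θ : IrrCharacter (cen P)) (hθ : IsCanon P θ) :
    can P θ = θ :=
  Helper49.DefOneCANa.can_eq_self P hP θ hθ

theorem can_apply_regular (hP : Nat.card P = p) (φ : IrrCharacter (cen P)) (x : cen P)
    (hx : ¬ p ∣ orderOf x) : (φ : cen P → ℂ) x = (can P φ : cen P → ℂ) x :=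
  Helper49.DefOneCANa.can_apply_regular P hP φ x hx

theorem canon_ext (hP : Nat.card P = p) (θ θ' : IrrCharacter (cen P)) (hθ : IsCanon P θ)
    (hθ' : IsCanon P θ')
    (h : ∀ x : cen P, ¬ p ∣ orderOf x → (θ : cen P → ℂ) x = (θ' : cen P → ℂ) x) : θ = θ' :=
  Helper49.DefOneCANa.canon_ext P hP θ θ' hθ hθ' h

theorem sameBlock_iff_can (hM : IsPModular p M) (hP : Nat.card P = p)
    (φ ψ : IrrCharacter (cen P)) :
    SameBlock M (φ : cen P → ℂ) (ψ : cen P → ℂ) ↔ can P φ = can P ψ :=
  Helper49.DefOneCANa.sameBlock_iff_can M P hM hP φ ψ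

theorem card_fibre_can (hP : Nat.card P = p) (θ : IrrCharacter (cen P)) (hθ : IsCanon P θ) :
    Nat.card {φ : IrrCharacter (cen P) // can P φ = θ} = p :=
  Helper49.DefOneCANa.card_fibre_can P hP θ hθ

theorem card_canon (hP : Nat.card P = p) :
    Nat.card {θ : IrrCharacter (cen P) // IsCanon P θ} =
      Nat.card {c : ConjClasses (cen P) // ∃ g : cen P, ConjClasses.mk g = c ∧ ¬ p ∣ orderOf g} :=
  Helper49.DefOneCANa.card_canon P hP

theorem can_smul (hP : Nat.card P = p) (n : nor P) (φ : IrrCharacter (cen P)) :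
    can P (n • φ) = n • can P φ :=
  Helper10.DefOneCANb.can_smul' P (isCanon_smul P hP) (isCanon_can P hP)
    (can_apply_regular P hP) (canon_ext P hP) n φ

theorem mult_smul (χ : IrrCharacter G) (n : nor P) (φ : IrrCharacter (cen P)) :
    mult P χ (n • φ) = mult P χ φ :=
  Helper10.DefOneCANb.mult_smul P χ n φ

theorem rowZ_smul (hP : Nat.card P = p) (χ : IrrCharacter G) (n : nor P)
    (φ : IrrCharacter (cen P)) : rowZ P χ (n • φ) = rowZ P χ φ :=
  Helper10.DefOneCANb.rowZ_smul' P (can_smul P hP) χ n φ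

/-! ## (GT1) the Gram relation -/

theorem card_stabilizer (hP : Nat.card P = p) (θ : IrrCharacter (cen P)) :
    Nat.card (MulAction.stabilizer (nor P) θ) = inertia P θ * Nat.card (cen P) :=
  have _ := hP
  Helper4.DefOneGT1.card_stabilizer' P (smul_eq_of_mem_cen P) θ

theorem inertia_pos (hP : Nat.card P = p) (θ : IrrCharacter (cen P)) : 0 < inertia P θ :=
  have _ := hP
  Helper4.DefOneGT1.inertia_pos' P (smul_eq_of_mem_cen P) θ

theorem inertia_dvd (hP : Nat.card P = p) (θ : IrrCharacter (cen P)) :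
    inertia P θ ∣ (cen P).relIndex (nor P) :=
  have _ := hP
  Helper4.DefOneGT1.inertia_dvd' P (smul_eq_of_mem_cen P) θ

theorem inertia_smul (hP : Nat.card P = p) (n : nor P) (θ : IrrCharacter (cen P)) :
    inertia P (n • θ) = inertia P θ :=
  have _ := hP
  Helper4.DefOneGT1.inertia_smul' P n θ

/-- the orbit of `θ` has `f / e_θ` elements -/
theorem card_orbit_mul_inertia (hP : Nat.card P = p) (θ : IrrCharacter (cen P)) :
    Nat.card (MulAction.orbit (nor P) θ) * inertia P θ = (cen P).relIndex (nor P) :=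
  have _ := hP
  Helper4.DefOneGT1.card_orbit_mul_inertia' P (smul_eq_of_mem_cen P) θ

theorem card_orbit_in_fibre (hP : Nat.card P = p) (φ : IrrCharacter (cen P))
    (hφ : ¬ IsCanon P φ) :
    Nat.card {ψ : IrrCharacter (cen P) // can P ψ = can P φ ∧ ∃ n : nor P, n • ψ = φ} =
      inertia P (can P φ) :=
  Helper4.DefOneGT1.card_orbit_in_fibre' P (can_smul P hP) (mem_cen_of_smul_eq P hP)
    (smul_eq_of_mem_cen P) φ hφ

open Classical in
/-- (GT1) **Gram relation** -/
theorem gram (hP : Nat.card P = p) (φ ψ : IrrCharacter (cen P)) (hφ : ¬ IsCanon P φ)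
    (hψ : ¬ IsCanon P ψ) :
    ∑ᶠ χ : IrrCharacter G, rowZ P χ φ * rowZ P χ ψ =
      (if ∃ n : nor P, n • ψ = φ then 1 else 0) +
        (if ∃ n : nor P, n • can P ψ = can P φ then (inertia P (can P φ) : ℤ) else 0) :=
  Helper31.DefOne.gram' P (mem_nor_of_conj_mem P hP) (can_apply_regular P hP) (isCanon_can P hP)
    (isCanon_smul P hP) (mem_cen_of_smul_eq P hP) (smul_eq_of_mem_cen P) (card_stabilizer P hP)
    φ ψ hφ hψ

/-! ## (GT2) the global chain: first facts -/

theorem Rset_smul (hP : Nat.card P = p) (n : nor P) (θ : IrrCharacter (cen P)) :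
    Rset P (n • θ) = Rset P θ :=
  Helper10.DefOneCANb.Rset_smul' P (can_smul P hP) n θ

/-- (a) -/
theorem exists_canon_mem_Rset (hP : Nat.card P = p) (χ : IrrCharacter G)
    (hχ : ¬ p ∣ charDegree (χ : G → ℂ)) : ∃ θ : IrrCharacter (cen P), IsCanon P θ ∧ χ ∈ Rset P θ :=
  Helper37.DefOneGT2a.exists_canon_mem_Rset' P (can_apply_regular P hP) (isCanon_can P hP)
    (card_fibre_can P hP) χ hχ

/-- the hypothesis provided by the module side (helper16) -/
def ModCount (p : ℕ) (P : Sylow p G) [((P : Subgroup G).subgroupOf (nor P)).Normal] : Prop :=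
  Nat.card {χ : IrrCharacter G // ¬ p ∣ Nat.card G / charDegree (χ : G → ℂ)} +
      Nat.card (IrrCharacter (↥(nor P) ⧸ (P : Subgroup G).subgroupOf (nor P))) ≤
    Nat.card {c : ConjClasses G // ∃ g : G, ConjClasses.mk g = c ∧ ¬ p ∣ orderOf g}

end Cfsg.Agent.Helper82.DefOne
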