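import Mathlib
import Cfsg.Agent.Helper16.DefOneSetup
import Cfsg.Agent.Helper79.CharBasic

set_option autoImplicit false

/-!
# The lattice data over a canonical character `θ`: definitions (helper82)

`ZType P θ` = the non-canonical characters of `C_G(P)` over `θ` (`p - 1` of them), the orbit
relation `orbSetoid P θ` of `N_G(P)` on it and the integral rows `rowFun P θ χ z = rowZ P χ z`:
exactly the input `(Z, s, r)` of the lattice bound (X-B).
-/

namespace Cfsg.Agent.Helper82.DefOne

open Cfsg Cfsg.Agent.Helper16 Cfsg.Agent.Helper16.DefOne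

universe u

variable {G : Type u} [Group G] [Fintype G] {p : ℕ} (P : Sylow p G)

/-- the non-canonical irreducible characters of `C_G(P)` over `θ` -/
def ZType (P : Sylow p G) (θ : IrrCharacter (cen P)) : Type u :=
  {φ : IrrCharacter (cen P) // can P φ = θ ∧ φ ≠ θ}

instance instFiniteZType (θ : IrrCharacter (cen P)) : Finite (ZType P θ) := by
  haveI : Finite (IrrCharacter (cen P)) := Cfsg.Agent.Helper79.irr_finite'
  unfold ZType
  infer_instance

noncomputable instance instFintypeZType (θ : IrrCharacter (cen P)) : Fintype (ZType P θ) :=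
  Fintype.ofFinite _

/-- `Irr(G)` is a fintype (NOT a global instance: use `attribute [local instance] irrFintype`) -/
noncomputable def irrFintype : Fintype (IrrCharacter G) :=
  haveI : Finite (IrrCharacter G) := Cfsg.Agent.Helper79.irr_finite'
  Fintype.ofFinite _

/-- the `N_G(P)`-orbit relation on `ZType P θ` -/
def orbSetoid (P : Sylow p G) (θ : IrrCharacter (cen P)) : Setoid (ZType P θ) where
  r z z' := ∃ n : nor P, n • z'.1 = z.1
  iseqv := by
    refine ⟨fun z => ⟨1, one_smul _ _⟩, ?_, ?_⟩
    · rintro z z' ⟨n, hn⟩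
      exact ⟨n⁻¹, by rw [← hn, inv_smul_smul]⟩
    · rintro z z' z'' ⟨n, hn⟩ ⟨m, hm⟩
      exact ⟨n * m, by rw [mul_smul, hm, hn]⟩

/-- the rows -/
noncomputable def rowFun (P : Sylow p G) (θ : IrrCharacter (cen P)) :
    IrrCharacter G → ZType P θ → ℤ := fun χ z => rowZ P χ z.1

end Cfsg.Agent.Helper82.DefOne
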