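import Mathlib
import Cfsg.Agent.Helper16.DefOneSetup
import Cfsg.Agent.Helper79.CharBasic
import Cfsg.Agent.Helper82.DefOne.Glue
import Cfsg.Agent.Helper59.LatticeXB
import Cfsg.Agent.Helper82.DefOne.LatticeDefs

set_option autoImplicit false

/-!
# The lattice data over a canonical character `θ` (helper82)

`ZType P θ` = the `p - 1` non-canonical characters of `C_G(P)` over `θ`, with the orbit relation
of `N_G(P)` and the integral rows `rowZ`: exactly the input of the lattice bound (X-B).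
-/

namespace Cfsg.Agent.Helper82.DefOne

open Cfsg Cfsg.Agent.Helper16 Cfsg.Agent.Helper16.DefOne

universe u

variable {G : Type u} [Group G] [Fintype G] {p : ℕ} [Fact p.Prime] (P : Sylow p G)

attribute [local instance] irrFintype

theorem not_isCanon_of_mem (hP : Nat.card P = p) (θ : IrrCharacter (cen P)) (z : ZType P θ) :
    ¬ IsCanon P z.1 := by
  intro h
  have := can_eq_self P hP z.1 h
  exact z.2.2 (this.symm.trans z.2.1)

theorem card_ZType (hP : Nat.card P = p) (θ : IrrCharacter (cen P)) (hθ : IsCanon P θ) :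
    Nat.card (ZType P θ) = p - 1 := by
  classical
  haveI : Finite (IrrCharacter (cen P)) := Cfsg.Agent.Helper79.irr_finite'
  haveI : Fintype {φ : IrrCharacter (cen P) // can P φ = θ} := Fintype.ofFinite _
  have h1 := card_fibre_can P hP θ hθ
  rw [Nat.card_eq_fintype_card] at h1
  let a : {φ : IrrCharacter (cen P) // can P φ = θ} := ⟨θ, can_eq_self P hP θ hθ⟩
  have e : ZType P θ ≃ {x : {φ : IrrCharacter (cen P) // can P φ = θ} // ¬ x = a} :=
    { toFun := fun z => ⟨⟨z.1, z.2.1⟩, fun h => z.2.2 (congrArg Subtype.val h)⟩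
      invFun := fun x => ⟨x.1.1, x.1.2, fun h => x.2 (Subtype.ext h)⟩
      left_inv := fun z => rfl
      right_inv := fun x => rfl }
  rw [Nat.card_congr e, Nat.card_eq_fintype_card, Fintype.card_subtype_compl,
    Fintype.card_subtype_eq, h1]

theorem orbSetoid_card_class (hP : Nat.card P = p) (θ : IrrCharacter (cen P)) (z : ZType P θ) :
    Nat.card {z' : ZType P θ // (orbSetoid P θ).r z z'} = inertia P θ := by
  have hz := not_isCanon_of_mem P hP θ z
  have h1 := card_orbit_in_fibre P hP z.1 hz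
  rw [z.2.1] at h1
  rw [← h1]
  apply Nat.card_congr
  refine
    { toFun := fun w => ⟨w.1.1, w.1.2.1, w.2⟩
      invFun := fun ψ => ⟨⟨ψ.1, ψ.2.1, ?_⟩, ψ.2.2⟩
      left_inv := fun w => rfl
      right_inv := fun ψ => rfl }
  intro h
  obtain ⟨n, hn⟩ := ψ.2.2
  apply hz
  rw [← hn, h]
  exact isCanon_smul P hP n θ (by rw [← ψ.2.1]; exact isCanon_can P hP ψ.1)

theorem rowFun_inv (hP : Nat.card P = p) (θ : IrrCharacter (cen P)) (χ : IrrCharacter G)
    (z z' : ZType P θ) (h : (orbSetoid P θ).r z z') : rowFun P θ χ z = rowFun P θ χ z' := by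
  obtain ⟨n, hn⟩ := h
  unfold rowFun
  rw [← hn, rowZ_smul P hP]

open Classical in
theorem rowFun_gram (hP : Nat.card P = p) (θ : IrrCharacter (cen P)) (z z' : ZType P θ) :
    ∑ χ : IrrCharacter G, rowFun P θ χ z * rowFun P θ χ z' =
      (if (orbSetoid P θ).r z z' then 1 else 0) + (inertia P θ : ℤ) := by
  have h := gram P hP z.1 z'.1 (not_isCanon_of_mem P hP θ z) (not_isCanon_of_mem P hP θ z')
  rw [finsum_eq_sum_of_fintype] at h
  unfold rowFun
  rw [h, z.2.1, z'.2.1]
  have h2 : ∃ n : nor P, n • θ = θ := ⟨1, one_smul _ _⟩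
  rw [if_pos h2]
  congr 1
  by_cases hc : ∃ n : nor P, n • z'.1 = z.1
  · rw [if_pos hc, if_pos (show (orbSetoid P θ).r z z' from hc)]
  · rw [if_neg hc, if_neg (show ¬ (orbSetoid P θ).r z z' from hc)]

theorem rowFun_ne_zero_iff (hP : Nat.card P = p) (θ : IrrCharacter (cen P)) (hθ : IsCanon P θ)
    (χ : IrrCharacter G) : rowFun P θ χ ≠ 0 ↔ χ ∈ Rset P θ := by
  constructor
  · intro h
    rw [Function.ne_iff] at h
    obtain ⟨z, hz⟩ := h
    exact ⟨z.1, z.2.1, hz⟩
  · rintro ⟨φ, hφ, hrow⟩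
    have hne : φ ≠ θ := by
      rintro rfl
      apply hrow
      unfold rowZ
      rw [can_eq_self P hP φ hθ, sub_self]
    rw [Function.ne_iff]
    exact ⟨⟨φ, hφ, hne⟩, hrow⟩

/-- (GT2-b) the lattice bound for `R_θ` -/
theorem inertia_mul_card_Rset_le (hP : Nat.card P = p) (θ : IrrCharacter (cen P))
    (hθ : IsCanon P θ) :
    inertia P θ * Nat.card (Rset P θ) ≤ inertia P θ ^ 2 + (p - 1) := by
  classical
  have h := Helper59.LatticeXB.lattice_bound (X := IrrCharacter G) (orbSetoid P θ) (inertia P θ) (inertia_pos P hP θ)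
    (orbSetoid_card_class P hP θ) (rowFun P θ) (rowFun_inv P hP θ) (rowFun_gram P hP θ)
  rw [card_ZType P hP θ hθ] at h
  have e : {χ : IrrCharacter G // rowFun P θ χ ≠ 0} ≃ Rset P θ :=
    Equiv.subtypeEquivRight fun χ => rowFun_ne_zero_iff P hP θ hθ χ
  rw [Nat.card_congr e] at h
  rw [sq]
  exact h

end Cfsg.Agent.Helper82.DefOne
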