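import Mathlib
import Cfsg.Agent.Helper16.DefOneSetup
import Cfsg.Agent.Helper79.CharComplete
import Cfsg.Agent.Helper78.IrrBasic
import Cfsg.Agent.Helper80.Degree
import Cfsg.Agent.Helper82.DefOne.Glue
import Cfsg.Agent.Helper82.DefOne.Lattice
import Cfsg.Agent.Helper25.CliffordCount
import Cfsg.Agent.Helper70.DefOneXG
import Cfsg.Agent.Helper82.DefOne.LatticeDefs
import Cfsg.Agent.Helper82.McKayP.Count

set_option autoImplicit false

/-!
# The global chain of the defect-one engine (helper82)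
-/

namespace Cfsg.Agent.Helper82.DefOne

open Cfsg Cfsg.Agent.Helper16 Cfsg.Agent.Helper16.DefOne

universe u

variable {G : Type u} [Group G] [Fintype G] {p : ℕ} [Fact p.Prime] (P : Sylow p G)

attribute [local instance] irrFintype

/-! ### degrees -/

theorem dvd_degree_iff (hP : Nat.card P = p) (χ : IrrCharacter G) :
    p ∣ charDegree (χ : G → ℂ) ↔ ¬ p ∣ Nat.card G / charDegree (χ : G → ℂ) := by
  have hp : p.Prime := Fact.out
  have hd : charDegree (χ : G → ℂ) ∣ Nat.card G :=
    Cfsg.Agent.Helper80.IsIrrCharacter.charDegree_dvd_card χ.2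
  have hpos : 0 < charDegree (χ : G → ℂ) := Cfsg.Agent.Helper78.charDegree_pos_of_isIrrCharacter χ.2
  have h1 : Nat.card P * (P : Subgroup G).index = Nat.card G := (P : Subgroup G).card_mul_index
  have h2 : ¬ p ∣ (P : Subgroup G).index := P.not_dvd_index
  rw [hP] at h1
  obtain ⟨q, hq⟩ := hd
  have hq' : Nat.card G / charDegree (χ : G → ℂ) = q := by
    rw [hq]; exact Nat.mul_div_cancel_left q hpos
  rw [hq']
  constructor
  · rintro ⟨d', hd'⟩ hpq
    obtain ⟨q', rfl⟩ := hpq
    apply h2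
    have : p * (P : Subgroup G).index = p * (d' * (p * q')) := by
      rw [h1, hq, hd']; ring
    have := Nat.eq_of_mul_eq_mul_left hp.pos this
    rw [this]
    exact ⟨d' * q', by ring⟩
  · intro hpq
    have : p ∣ charDegree (χ : G → ℂ) * q := by
      rw [← hq, ← h1]; exact dvd_mul_right p _
    rcases (Nat.Prime.dvd_mul hp).1 this with h | h
    · exact h
    · exact absurd h hpq

/-! ### finite sets -/

section Chain

open Classical

/-- the canonical characters, as a finset -/
noncomputable def canonF (P : Sylow p G) : Finset (IrrCharacter (cen P)) :=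
  Finset.univ.filter (fun θ => IsCanon P θ)

/-- `R_θ` as a finset -/
noncomputable def RF (P : Sylow p G) (θ : IrrCharacter (cen P)) : Finset (IrrCharacter G) :=
  Finset.univ.filter (fun χ => χ ∈ Rset P θ)

/-- the union of the `R_θ` -/
noncomputable def UF (P : Sylow p G) : Finset (IrrCharacter G) :=
  Finset.univ.filter (fun χ => ∃ θ : IrrCharacter (cen P), IsCanon P θ ∧ χ ∈ Rset P θ)

/-- the characters of `p'`-degree -/
noncomputable def IF (p : ℕ) (G : Type u) [Group G] [Fintype G] : Finset (IrrCharacter G) :=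
  Finset.univ.filter (fun χ => ¬ p ∣ charDegree (χ : G → ℂ))

/-- the weight of `χ` -/
noncomputable def wt (P : Sylow p G) (χ : IrrCharacter G) : ℕ :=
  ∑ θ ∈ canonF P, if χ ∈ Rset P θ then inertia P θ else 0

theorem card_Rset_eq (θ : IrrCharacter (cen P)) : Nat.card (Rset P θ) = (RF P θ).card := by
  rw [Nat.card_eq_fintype_card]
  unfold RF
  rw [← Fintype.card_subtype]

theorem sum_inertia_mul_card :
    ∑ θ ∈ canonF P, inertia P θ * (RF P θ).card = ∑ χ : IrrCharacter G, wt P χ := by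
  unfold wt
  rw [Finset.sum_comm]
  apply Finset.sum_congr rfl
  intro θ _
  unfold RF
  rw [Finset.card_filter, Finset.mul_sum]
  apply Finset.sum_congr rfl
  intro χ _
  split_ifs <;> simp

/-- the orbit of `θ₀` as a finset -/
noncomputable def orbF (P : Sylow p G) (θ₀ : IrrCharacter (cen P)) : Finset (IrrCharacter (cen P)) :=
  Finset.univ.filter (fun θ => θ ∈ MulAction.orbit (nor P) θ₀)

theorem card_orbF (θ₀ : IrrCharacter (cen P)) :
    (orbF P θ₀).card = Nat.card (MulAction.orbit (nor P) θ₀) := by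
  rw [Nat.card_eq_fintype_card]
  unfold orbF
  rw [← Fintype.card_subtype]

theorem orbF_subset_canonF (hP : Nat.card P = p) (θ₀ : IrrCharacter (cen P))
    (h₀ : IsCanon P θ₀) : orbF P θ₀ ⊆ canonF P := by
  intro θ hθ
  unfold orbF at hθ
  rw [Finset.mem_filter] at hθ
  obtain ⟨n, rfl⟩ := hθ.2
  unfold canonF
  rw [Finset.mem_filter]
  exact ⟨Finset.mem_univ _, isCanon_smul P hP n θ₀ h₀⟩

theorem sum_orbF (hP : Nat.card P = p) (θ₀ : IrrCharacter (cen P)) (χ : IrrCharacter G)
    (hχ : χ ∈ Rset P θ₀) :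
    ∑ θ ∈ orbF P θ₀, (if χ ∈ Rset P θ then inertia P θ else 0) = (cen P).relIndex (nor P) := by
  have h1 : ∀ θ ∈ orbF P θ₀, (if χ ∈ Rset P θ then inertia P θ else 0) = inertia P θ₀ := by
    intro θ hθ
    unfold orbF at hθ
    rw [Finset.mem_filter] at hθ
    obtain ⟨n, rfl⟩ := hθ.2
    show (if χ ∈ Rset P (n • θ₀) then inertia P (n • θ₀) else 0) = inertia P θ₀
    rw [Rset_smul P hP, if_pos hχ, inertia_smul P hP]
  rw [Finset.sum_congr rfl h1, Finset.sum_const, card_orbF, smul_eq_mul]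
  exact card_orbit_mul_inertia P hP θ₀

/-- `f ≤ wt χ` for `χ` in some `R_θ` -/
theorem le_wt (hP : Nat.card P = p) (θ₀ : IrrCharacter (cen P)) (h₀ : IsCanon P θ₀)
    (χ : IrrCharacter G) (hχ : χ ∈ Rset P θ₀) : (cen P).relIndex (nor P) ≤ wt P χ := by
  rw [← sum_orbF P hP θ₀ χ hχ]
  unfold wt
  exact Finset.sum_le_sum_of_subset (orbF_subset_canonF P hP θ₀ h₀)

/-- `f < wt χ` for `χ` in two `R_θ`'s of different orbits -/
theorem lt_wt (hP : Nat.card P = p) (θ₀ θ₁ : IrrCharacter (cen P)) (h₀ : IsCanon P θ₀)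
    (h₁ : IsCanon P θ₁) (hne : ¬ ∃ n : nor P, n • θ₀ = θ₁)
    (χ : IrrCharacter G) (hχ₀ : χ ∈ Rset P θ₀) (hχ₁ : χ ∈ Rset P θ₁) :
    (cen P).relIndex (nor P) < wt P χ := by
  have hnot : θ₁ ∉ orbF P θ₀ := by
    unfold orbF
    rw [Finset.mem_filter]
    rintro ⟨-, n, hn⟩
    exact hne ⟨n, hn⟩
  have hsub : insert θ₁ (orbF P θ₀) ⊆ canonF P := by
    intro θ hθ
    rw [Finset.mem_insert] at hθ
    rcases hθ with rfl | hθ
    · unfold canonF
      rw [Finset.mem_filter]
      exact ⟨Finset.mem_univ _, h₁⟩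
    · exact orbF_subset_canonF P hP θ₀ h₀ hθ
  have h2 : ∑ θ ∈ insert θ₁ (orbF P θ₀), (if χ ∈ Rset P θ then inertia P θ else 0) ≤ wt P χ := by
    unfold wt
    exact Finset.sum_le_sum_of_subset hsub
  rw [Finset.sum_insert hnot, sum_orbF P hP θ₀ χ hχ₀, if_pos hχ₁] at h2
  have := inertia_pos P hP θ₁
  omega

/-! ### the inequalities of the chain -/

theorem IF_subset_UF (hP : Nat.card P = p) : IF p G ⊆ UF P := by
  intro χ hχ
  unfold IF at hχ
  rw [Finset.mem_filter] at hχ
  unfold UF
  rw [Finset.mem_filter]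
  exact ⟨Finset.mem_univ _, exists_canon_mem_Rset P hP χ hχ.2⟩

theorem relIndex_mul_card_UF_le (hP : Nat.card P = p) :
    (cen P).relIndex (nor P) * (UF P).card ≤ ∑ χ : IrrCharacter G, wt P χ := by
  have h1 : (cen P).relIndex (nor P) * (UF P).card = ∑ _χ ∈ UF P, (cen P).relIndex (nor P) := by
    rw [Finset.sum_const, smul_eq_mul, mul_comm]
  rw [h1]
  refine le_trans (Finset.sum_le_sum ?_) (Finset.sum_le_sum_of_subset (Finset.subset_univ _))
  intro χ hχ
  unfold UF at hχ
  rw [Finset.mem_filter] at hχ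
  obtain ⟨θ, hθ, hχθ⟩ := hχ.2
  exact le_wt P hP θ hθ χ hχθ

theorem sum_inertia_mul_card_le (hP : Nat.card P = p) :
    ∑ θ ∈ canonF P, inertia P θ * (RF P θ).card ≤
      ∑ θ ∈ canonF P, (inertia P θ ^ 2 + (p - 1)) := by
  apply Finset.sum_le_sum
  intro θ hθ
  unfold canonF at hθ
  rw [Finset.mem_filter] at hθ
  rw [← card_Rset_eq]
  exact inertia_mul_card_Rset_le P hP θ hθ.2

theorem card_nor_eq : Nat.card (nor P) = (cen P).relIndex (nor P) * Nat.card (cen P) := by
  have h1 := ((cen P).subgroupOf (nor P)).card_mul_index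
  have h2 : Nat.card ((cen P).subgroupOf (nor P)) = Nat.card (cen P) :=
    Nat.card_congr (Subgroup.subgroupOfEquivOfLe Subgroup.le_normalizer).toEquiv
  rw [h2] at h1
  rw [← h1, mul_comm]
  rfl

theorem sum_inertia_sq_le (hP : Nat.card P = p) [((P : Subgroup G).subgroupOf (nor P)).Normal] :
    ∑ θ ∈ canonF P, inertia P θ ^ 2 ≤ (cen P).relIndex (nor P) *
      Nat.card (IrrCharacter (↥(nor P) ⧸ (P : Subgroup G).subgroupOf (nor P))) := by
  have hXF := Helper25.CliffordCount.finsum_card_stabilizer_sq_le (cen P) (P : Subgroup G) (le_cen P hP)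
    (isCyclic_nor_quot P hP)
  have hfin : {θ : IrrCharacter (cen P) | ∀ x : cen P, (x : G) ∈ (P : Subgroup G) →
      (θ : cen P → ℂ) x = (θ : cen P → ℂ) 1}.Finite := Set.toFinite _
  rw [finsum_mem_eq_finite_toFinset_sum _ hfin] at hXF
  have hset : hfin.toFinset = canonF P := by
    ext θ
    unfold canonF
    rw [Set.Finite.mem_toFinset, Finset.mem_filter]
    exact ⟨fun h => ⟨Finset.mem_univ _, h⟩, fun h => h.2⟩
  rw [hset] at hXF
  have h1 : ∑ θ ∈ canonF P, Nat.card (MulAction.stabilizer (nor P) θ) ^ 2 =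
      Nat.card (cen P) ^ 2 * ∑ θ ∈ canonF P, inertia P θ ^ 2 := by
    rw [Finset.mul_sum]
    apply Finset.sum_congr rfl
    intro θ _
    rw [card_stabilizer P hP θ]; ring
  rw [h1, card_nor_eq P] at hXF
  have hC : 0 < Nat.card (cen P) ^ 2 := pow_pos Nat.card_pos 2
  have h2 : Nat.card (cen P) ^ 2 * ∑ θ ∈ canonF P, inertia P θ ^ 2 ≤
      Nat.card (cen P) ^ 2 * ((cen P).relIndex (nor P) *
        Nat.card (IrrCharacter (↥(nor P) ⧸ (P : Subgroup G).subgroupOf (nor P)))) := by
    calc _ ≤ _ := hXF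
      _ = _ := by ring
  exact Nat.le_of_mul_le_mul_left h2 hC

theorem card_canonF (hP : Nat.card P = p) : (canonF P).card = Nat.card (McKayP.RegClass p (cen P)) := by
  have h := card_canon P hP
  rw [Nat.card_eq_fintype_card, Fintype.card_subtype] at h
  unfold canonF
  rw [h]
  rfl

theorem class_count (hP : Nat.card P = p) :
    (p - 1) * (canonF P).card + (cen P).relIndex (nor P) * Nat.card (McKayP.RegClass p G) =
      (cen P).relIndex (nor P) * Nat.card (ConjClasses G) := by
  have h := Helper70.DefOneXG.card_conjClasses_eq_of_sylow_prime p P hP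
  rw [← nor_eq_normalizer P hP] at h
  rw [card_canonF P hP, h, add_comm]
  rfl

theorem card_irr_split (hP : Nat.card P = p) :
    Nat.card (ConjClasses G) = (IF p G).card +
      Nat.card {χ : IrrCharacter G // ¬ p ∣ Nat.card G / charDegree (χ : G → ℂ)} := by
  rw [← Cfsg.Agent.Helper79.card_irr_eq_card_conjClasses, Nat.card_eq_fintype_card,
    Nat.card_eq_fintype_card]
  have e : {χ : IrrCharacter G // ¬ p ∣ Nat.card G / charDegree (χ : G → ℂ)} ≃
      {χ : IrrCharacter G // ¬ ¬ p ∣ charDegree (χ : G → ℂ)} :=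
    Equiv.subtypeEquivRight fun χ => by rw [not_not]; exact (dvd_degree_iff P hP χ).symm
  rw [Fintype.card_congr e, Fintype.card_subtype_compl]
  unfold IF
  rw [← Fintype.card_subtype]
  have := Fintype.card_subtype_le (fun χ : IrrCharacter G => ¬ p ∣ charDegree (χ : G → ℂ))
  omega

/-! ### the sandwich -/

theorem relIndex_pos : 0 < (cen P).relIndex (nor P) := by
  have : ((cen P).subgroupOf (nor P)).index ≠ 0 := Subgroup.index_ne_zero_of_finite
  have h2 : (cen P).relIndex (nor P) = ((cen P).subgroupOf (nor P)).index := rfl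
  omega

omit [Fintype G] [Group G] [Fact p.Prime] in
theorem chain_arith (f a b S S' T pc I β r k : ℕ) (hAB : a ≤ b) (hBS : f * b ≤ S) (hSS : S' = S)
    (hST : S' ≤ T + pc) (hT : T ≤ f * I) (hcl : pc + f * r = f * k) (hk : k = a + β)
    (hm : β + I ≤ r) :
    f * a = f * b ∧ f * b = S ∧ S' = T + pc ∧ f * (β + I) = f * r := by
  subst hk
  have h1 : f * a ≤ f * b := Nat.mul_le_mul_left f hAB
  have h2 : f * (β + I) ≤ f * r := Nat.mul_le_mul_left f hm
  have h3 : f * (a + β) = f * a + f * β := by ring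
  have h4 : f * (β + I) = f * β + f * I := by ring
  rw [h3] at hcl
  rw [h4] at h2 ⊢
  generalize f * a = fa at *
  generalize f * b = fb at *
  generalize f * I = fI at *
  generalize f * β = fβ at *
  generalize f * r = fr at *
  omega

/-- all inequalities of the chain are equalities -/
theorem chain_equalities (hP : Nat.card P = p) [((P : Subgroup G).subgroupOf (nor P)).Normal]
    (hmod : ModCount p P) :
    (IF p G).card = (UF P).card ∧
    (cen P).relIndex (nor P) * (UF P).card = ∑ χ : IrrCharacter G, wt P χ ∧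
    ∑ θ ∈ canonF P, inertia P θ * (RF P θ).card =
      ∑ θ ∈ canonF P, (inertia P θ ^ 2 + (p - 1)) ∧
    Nat.card {χ : IrrCharacter G // ¬ p ∣ Nat.card G / charDegree (χ : G → ℂ)} +
      Nat.card (IrrCharacter (↥(nor P) ⧸ (P : Subgroup G).subgroupOf (nor P))) =
        Nat.card (McKayP.RegClass p G) := by
  have hf := relIndex_pos P
  have hAB : (IF p G).card ≤ (UF P).card := Finset.card_le_card (IF_subset_UF P hP)
  have hBS := relIndex_mul_card_UF_le P hP
  have hSS := sum_inertia_mul_card P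
  have hST := sum_inertia_mul_card_le P hP
  have hT := sum_inertia_sq_le P hP
  have hcl := class_count P hP
  have hk := card_irr_split P hP
  have hm : Nat.card {χ : IrrCharacter G // ¬ p ∣ Nat.card G / charDegree (χ : G → ℂ)} +
      Nat.card (IrrCharacter (↥(nor P) ⧸ (P : Subgroup G).subgroupOf (nor P))) ≤
        Nat.card (McKayP.RegClass p G) := hmod
  rw [Finset.sum_add_distrib, Finset.sum_const, smul_eq_mul, mul_comm (canonF P).card] at hST
  rw [Finset.sum_add_distrib, Finset.sum_const, smul_eq_mul, mul_comm (canonF P).card]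
  obtain ⟨e1, e2, e3, e4⟩ := chain_arith _ _ _ _ _ _ _ _ _ _ _ hAB hBS hSS hST hT hcl hk hm
  exact ⟨Nat.eq_of_mul_eq_mul_left hf e1, e2, e3, Nat.eq_of_mul_eq_mul_left hf e4⟩

/-! ### the outputs -/

/-- (c1) equality in the lattice bound -/
theorem inertia_mul_card_Rset_eq (hP : Nat.card P = p)
    [((P : Subgroup G).subgroupOf (nor P)).Normal] (hmod : ModCount p P)
    (θ : IrrCharacter (cen P)) (hθ : IsCanon P θ) :
    inertia P θ * Nat.card (Rset P θ) = inertia P θ ^ 2 + (p - 1) := by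
  obtain ⟨-, -, e3, -⟩ := chain_equalities P hP hmod
  have hle : ∀ θ ∈ canonF P, inertia P θ * (RF P θ).card ≤ inertia P θ ^ 2 + (p - 1) := by
    intro θ hθ
    unfold canonF at hθ
    rw [Finset.mem_filter] at hθ
    rw [← card_Rset_eq]
    exact inertia_mul_card_Rset_le P hP θ hθ.2
  have := (Finset.sum_eq_sum_iff_of_le hle).1 e3 θ (by
    unfold canonF
    rw [Finset.mem_filter]
    exact ⟨Finset.mem_univ _, hθ⟩)
  rw [card_Rset_eq]
  exact this

/-- the weight of a character in the union is exactly `f` -/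
theorem wt_eq (hP : Nat.card P = p) [((P : Subgroup G).subgroupOf (nor P)).Normal]
    (hmod : ModCount p P) (χ : IrrCharacter G) (hχ : χ ∈ UF P) :
    wt P χ = (cen P).relIndex (nor P) := by
  obtain ⟨-, e2, -, -⟩ := chain_equalities P hP hmod
  have h1 : (cen P).relIndex (nor P) * (UF P).card = ∑ _χ ∈ UF P, (cen P).relIndex (nor P) := by
    rw [Finset.sum_const, smul_eq_mul, mul_comm]
  have hle : ∀ χ ∈ UF P, (cen P).relIndex (nor P) ≤ wt P χ := by
    intro χ hχ
    unfold UF at hχ
    rw [Finset.mem_filter] at hχ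
    obtain ⟨θ, hθ, hχθ⟩ := hχ.2
    exact le_wt P hP θ hθ χ hχθ
  have h2 : ∑ χ ∈ UF P, wt P χ ≤ ∑ χ : IrrCharacter G, wt P χ :=
    Finset.sum_le_sum_of_subset (Finset.subset_univ _)
  have h3 : ∑ _χ ∈ UF P, (cen P).relIndex (nor P) ≤ ∑ χ ∈ UF P, wt P χ := Finset.sum_le_sum hle
  have h4 : ∑ _χ ∈ UF P, (cen P).relIndex (nor P) = ∑ χ ∈ UF P, wt P χ := by
    rw [← h1] at h3 ⊢
    omega
  exact ((Finset.sum_eq_sum_iff_of_le hle).1 h4 χ hχ).symm

/-- (c2) disjointness -/
theorem Rset_disjoint (hP : Nat.card P = p)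
    [((P : Subgroup G).subgroupOf (nor P)).Normal] (hmod : ModCount p P)
    (θ θ' : IrrCharacter (cen P)) (hθ : IsCanon P θ) (hθ' : IsCanon P θ')
    (h : ¬ ∃ n : nor P, n • θ = θ') : Disjoint (Rset P θ) (Rset P θ') := by
  rw [Set.disjoint_left]
  intro χ hχ hχ'
  have hU : χ ∈ UF P := by
    unfold UF
    rw [Finset.mem_filter]
    exact ⟨Finset.mem_univ _, θ, hθ, hχ⟩
  have h1 := wt_eq P hP hmod χ hU
  have h2 := lt_wt P hP θ θ' hθ hθ' h χ hχ hχ'
  omega

/-- (c3) the characters of `p'`-degree are exactly those with a nonzero row -/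
theorem not_dvd_degree_iff (hP : Nat.card P = p)
    [((P : Subgroup G).subgroupOf (nor P)).Normal] (hmod : ModCount p P) (χ : IrrCharacter G) :
    ¬ p ∣ charDegree (χ : G → ℂ) ↔ ∃ θ : IrrCharacter (cen P), IsCanon P θ ∧ χ ∈ Rset P θ := by
  obtain ⟨e1, -, -, -⟩ := chain_equalities P hP hmod
  have heq : IF p G = UF P := Finset.eq_of_subset_of_card_le (IF_subset_UF P hP) e1.ge
  have : χ ∈ IF p G ↔ χ ∈ UF P := by rw [heq]
  unfold IF UF at this
  rw [Finset.mem_filter, Finset.mem_filter] at this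
  simpa using this

/-- (c4) the count behind S4502 -/
theorem card_pPrime_degree (hP : Nat.card P = p)
    [((P : Subgroup G).subgroupOf (nor P)).Normal] (hmod : ModCount p P) :
    Nat.card {χ : IrrCharacter G // ¬ p ∣ charDegree (χ : G → ℂ)} =
      Nat.card (IrrCharacter (↥(nor P) ⧸ (P : Subgroup G).subgroupOf (nor P))) +
        Nat.card (McKayP.SingClass p G) := by
  obtain ⟨-, -, -, e4⟩ := chain_equalities P hP hmod
  have hk := card_irr_split P hP
  have hs := McKayP.card_conjClasses_eq p G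
  have h1 : Nat.card {χ : IrrCharacter G // ¬ p ∣ charDegree (χ : G → ℂ)} = (IF p G).card := by
    rw [Nat.card_eq_fintype_card]
    unfold IF
    rw [← Fintype.card_subtype]
  rw [h1]
  omega

/-- packaged equality hypothesis of the lattice bound (for the equality case X-B') -/
theorem lattice_heq (hP : Nat.card P = p)
    [((P : Subgroup G).subgroupOf (nor P)).Normal] (hmod : ModCount p P)
    (θ : IrrCharacter (cen P)) (hθ : IsCanon P θ) :
    inertia P θ * Nat.card (Rset P θ) = inertia P θ * inertia P θ + (p - 1) := by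
  rw [inertia_mul_card_Rset_eq P hP hmod θ hθ, sq]

end Chain

end Cfsg.Agent.Helper82.DefOne
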